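import Groth.Agent.Lib.Hensel.FiniteNhd
import Groth.Agent.Lib.Hensel.PairHull
import Groth.Agent.Lib.Hensel.QuasiFiniteNhd
import Mathlib.LinearAlgebra.DirectSum.Finsupp
import Mathlib.LinearAlgebra.TensorProduct.RightExactness
import Mathlib.RingTheory.TensorProduct.Maps
import Mathlib.Algebra.Polynomial.Reverse
import Mathlib.RingTheory.IntegralClosure.Algebra.Basic
import Mathlib.RingTheory.Etale.Basic

/-!
# An étale neighbourhood of a pair over which a quotient-finite algebra becomes finite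
-/

set_option autoImplicit false
set_option linter.all false
set_option backward.isDefEq.respectTransparency false

universe u

open TensorProduct Polynomial

namespace GrothLib.EtFinNhd10

open GrothLib.Hensel

/-- the additive group of a stage comes from its ring structure -/
noncomputable local instance (priority := high) ringAddCommMonoid {A C : Type u} [CommRing A] [CommRing C] [Algebra A C] (N : Nbhd A C) :
    AddCommMonoid N.Ring := Semiring.toAddCommMonoid

/-- the module structure of a stage comes from its algebra structure -/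
noncomputable local instance (priority := high) ringModule {A C : Type u} [CommRing A] [CommRing C] [Algebra A C] (N : Nbhd A C) :
    Module A N.Ring := Algebra.toModule

variable {A : Type u} [CommRing A] {C : Type u} [CommRing C] [Algebra A C]

/-- The map on tensors induced by a stage. -/
noncomputable def toH {M : Type u} [AddCommGroup M] [Module A M] (N : Nbhd A C) :
    N.Ring ⊗[A] M →ₗ[A] Hull A C ⊗[A] M :=
  (Hull.ι N).toLinearMap.rTensor M

theorem toH_map {M : Type u} [AddCommGroup M] [Module A M] {N N' : Nbhd A C} (f : N ⟶ N')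
    (z : N.Ring ⊗[A] M) : toH N' (f.map.toLinearMap.rTensor M z) = toH N z := by
  induction z with
  | zero => simp
  | tmul a m => simp [toH, Hull.ι_map]
  | add a b ha hb => rw [map_add, map_add, map_add, ha, hb]

theorem exists_toH {M : Type u} [AddCommGroup M] [Module A M] (x : Hull A C ⊗[A] M) :
    ∃ (N : Nbhd A C) (z : N.Ring ⊗[A] M), toH N z = x := by
  induction x with
  | zero => exact ⟨Classical.arbitrary _, 0, map_zero _⟩
  | tmul h m =>
    obtain ⟨N, a, rfl⟩ := Hull.exists_ι h
    exact ⟨N, a ⊗ₜ m, rfl⟩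
  | add a b ha hb =>
    obtain ⟨N₁, z₁, rfl⟩ := ha
    obtain ⟨N₂, z₂, rfl⟩ := hb
    obtain ⟨K, f, g, -⟩ := CategoryTheory.IsFilteredOrEmpty.cocone_objs N₁ N₂
    exact ⟨K, f.map.toLinearMap.rTensor M z₁ + g.map.toLinearMap.rTensor M z₂, by
      rw [map_add, toH_map, toH_map]⟩

theorem lTensor_toH {M M' : Type u} [AddCommGroup M] [Module A M] [AddCommGroup M'] [Module A M']
    (l : M →ₗ[A] M') {N : Nbhd A C} (x : N.Ring ⊗[A] M) :
    l.lTensor (Hull A C) (toH N x) = toH N (l.lTensor N.Ring x) := by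
  rw [toH, toH, ← LinearMap.comp_apply, LinearMap.lTensor_comp_rTensor, ← LinearMap.rTensor_comp_lTensor,
    LinearMap.comp_apply]

/-- A tensor which dies in the hull dies at some stage. -/
theorem exists_hom_eq_zero {M : Type u} [AddCommGroup M] [Module A M] {N : Nbhd A C}
    (z : N.Ring ⊗[A] M) (h : toH N z = 0) :
    ∃ (N' : Nbhd A C) (f : N ⟶ N'), f.map.toLinearMap.rTensor M z = 0 := by
  classical
  let π : (M →₀ A) →ₗ[A] M := Finsupp.linearCombination A id
  have hπ : Function.Surjective π := Finsupp.linearCombination_id_surjective A M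
  obtain ⟨w, rfl⟩ := LinearMap.lTensor_surjective N.Ring hπ z
  have hw : π.lTensor (Hull A C) (toH N w) = 0 := by
    rw [← h]
    show (π.lTensor (Hull A C)).comp (toH N) w = ((toH N).comp (π.lTensor N.Ring)) w
    rw [toH, toH, LinearMap.lTensor_comp_rTensor, LinearMap.rTensor_comp_lTensor]
  obtain ⟨v, hv⟩ := (lTensor_exact (M := ↥(LinearMap.ker π)) (N := M →₀ A) (P := M) (Hull A C) (f := (LinearMap.ker π).subtype) (g := π) (LinearMap.exact_subtype_ker_map π) hπ _).mp hw
  obtain ⟨N₂, v₂, rfl⟩ := exists_toH (M := ↥(LinearMap.ker π)) v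
  obtain ⟨K, f, g, -⟩ := CategoryTheory.IsFilteredOrEmpty.cocone_objs N N₂
  let d : K.Ring ⊗[A] (M →₀ A) := f.map.toLinearMap.rTensor _ w -
    (LinearMap.ker π).subtype.lTensor K.Ring (g.map.toLinearMap.rTensor _ v₂)
  have hd : toH K d = 0 := by
    rw [map_sub, toH_map, sub_eq_zero, ← hv, ← toH_map g]
    exact lTensor_toH _ _
  let e := TensorProduct.finsuppScalarRight A A K.Ring M
  have he : ∀ m, Hull.ι K (e d m) = 0 := fun m => by
    have : ∀ x : K.Ring ⊗[A] (M →₀ A), TensorProduct.finsuppScalarRight A A (Hull A C) M (toH K x) m =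
        Hull.ι K (e x m) := fun x => by
      induction x with
      | zero => simp
      | tmul a l => simp [toH, e, TensorProduct.finsuppScalarRight_apply_tmul_apply]
      | add a b ha hb => simp only [map_add, Finsupp.add_apply, ha, hb]
    rw [← this, hd, map_zero, Finsupp.zero_apply]
  obtain ⟨K', k, hk⟩ := Hull.exists_map_eq_zero_family (e d).support (fun m => e d m) fun m _ => he m
  refine ⟨K', CategoryTheory.CategoryStruct.comp f k, ?_⟩
  have hd' : k.map.toLinearMap.rTensor (M →₀ A) d = 0 := by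
    apply (TensorProduct.finsuppScalarRight A A K'.Ring M).injective
    ext m
    have : ∀ x : K.Ring ⊗[A] (M →₀ A), TensorProduct.finsuppScalarRight A A K'.Ring M
        (k.map.toLinearMap.rTensor (M →₀ A) x) m = k.map (e x m) := fun x => by
      induction x with
      | zero => simp
      | tmul a l => simp [e, TensorProduct.finsuppScalarRight_apply_tmul_apply]
      | add a b ha hb => simp only [map_add, Finsupp.add_apply, ha, hb]
    rw [this, map_zero, Finsupp.zero_apply]
    by_cases hm : m ∈ (e d).support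
    · exact hk m hm
    · rw [Finsupp.notMem_support_iff.mp hm, map_zero]
  have hπk : π ∘ₗ (LinearMap.ker π).subtype = 0 := LinearMap.ext fun x => x.2
  have h0 := congrArg (π.lTensor K'.Ring) hd'
  have hcomm : ∀ (P Q : Nbhd A C) (q : P ⟶ Q) (x : P.Ring ⊗[A] (M →₀ A)),
      π.lTensor Q.Ring (q.map.toLinearMap.rTensor _ x) = q.map.toLinearMap.rTensor _ (π.lTensor P.Ring x) := by
    intro P Q q x
    rw [← LinearMap.comp_apply, LinearMap.lTensor_comp_rTensor, ← LinearMap.rTensor_comp_lTensor,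
      LinearMap.comp_apply]
  rw [hcomm, map_zero, map_sub, hcomm, ← LinearMap.lTensor_comp_apply, hπk, LinearMap.lTensor_zero,
    LinearMap.zero_apply, sub_zero, ← LinearMap.rTensor_comp_apply] at h0
  exact h0

theorem exists_hom_eq_zero_family {M : Type u} [AddCommGroup M] [Module A M] {N : Nbhd A C}
    {σ : Type*} (s : Finset σ) (z : σ → N.Ring ⊗[A] M) (h : ∀ i ∈ s, toH N (z i) = 0) :
    ∃ (N' : Nbhd A C) (f : N ⟶ N'), ∀ i ∈ s, f.map.toLinearMap.rTensor M (z i) = 0 := by
  classical
  induction s using Finset.induction_on with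
  | empty => exact ⟨N, CategoryTheory.CategoryStruct.id N, by simp⟩
  | insert i t hit ih =>
    obtain ⟨K, f, hf⟩ := ih fun j hj => h j (Finset.mem_insert_of_mem hj)
    obtain ⟨K', g, hg⟩ := exists_hom_eq_zero (f.map.toLinearMap.rTensor M (z i))
      ((toH_map f _).trans (h i (Finset.mem_insert_self i t)))
    refine ⟨K', CategoryTheory.CategoryStruct.comp f g, fun j hj => ?_⟩
    show (g.map.toLinearMap.comp f.map.toLinearMap).rTensor M (z j) = 0
    rw [LinearMap.rTensor_comp_apply]
    rcases Finset.mem_insert.mp hj with rfl | hj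
    · exact hg
    · rw [hf j hj, map_zero]

theorem map_algebraMap_ideal {R S : Type u} [Semiring R] [Semiring S] [Algebra A R] [Algebra A S]
    (f : R →ₐ[A] S) (I : Ideal A) : (I.map (algebraMap A R)).map f = I.map (algebraMap A S) := by
  rw [← f.comp_algebraMap, ← Ideal.map_map]
  rfl

section Main

variable {B : Type u} [CommRing B] [Algebra A B] {I : Ideal A}

/-- The stage map on tensor algebras. -/
noncomputable def algH (N : Nbhd A C) : N.Ring ⊗[A] B →ₐ[A] Hull A C ⊗[A] B :=
  Algebra.TensorProduct.map (Hull.ι N) (AlgHom.id A B)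

theorem algH_eq (N : Nbhd A C) (z : N.Ring ⊗[A] B) : algH N z = toH N z := by
  induction z with
  | zero => simp
  | tmul a m => simp [algH, toH]
  | add a b ha hb => rw [map_add, map_add, ha, hb]

/-- Transition maps. -/
noncomputable def tr {N N' : Nbhd A C} (f : N ⟶ N') : N.Ring ⊗[A] B →ₐ[A] N'.Ring ⊗[A] B :=
  Algebra.TensorProduct.map f.map (AlgHom.id A B)

theorem tr_eq {N N' : Nbhd A C} (f : N ⟶ N') (z : N.Ring ⊗[A] B) :
    tr f z = f.map.toLinearMap.rTensor B z := by
  induction z with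
  | zero => simp
  | tmul a m => simp [tr]
  | add a b ha hb => rw [map_add, map_add, ha, hb]

theorem algH_tr {N N' : Nbhd A C} (f : N ⟶ N') (z : N.Ring ⊗[A] B) : algH N' (tr f z) = algH N z := by
  rw [algH_eq, algH_eq, tr_eq, toH_map]

/-- The extension of an ideal to a stage. -/
noncomputable abbrev stageIdeal (I : Ideal A) (N : Nbhd A C) :=
  I.map (algebraMap A (N.Ring ⊗[A] B))

theorem exists_mem_map (x : Hull A C ⊗[A] B) (hx : x ∈ I.map (algebraMap A (Hull A C ⊗[A] B))) :
    ∃ (N : Nbhd A C) (w : N.Ring ⊗[A] B), w ∈ stageIdeal I N ∧ algH N w = x := by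
  induction hx using Submodule.span_induction with
  | mem y hy =>
    obtain ⟨a, ha, rfl⟩ := hy
    exact ⟨Classical.arbitrary _, algebraMap A _ a, Ideal.mem_map_of_mem _ ha, AlgHom.commutes _ _⟩
  | zero => exact ⟨Classical.arbitrary _, 0, zero_mem _, map_zero _⟩
  | add a b _ _ ha hb =>
    obtain ⟨N₁, w₁, h₁, rfl⟩ := ha
    obtain ⟨N₂, w₂, h₂, rfl⟩ := hb
    obtain ⟨K, f, g, -⟩ := CategoryTheory.IsFilteredOrEmpty.cocone_objs N₁ N₂
    refine ⟨K, tr f w₁ + tr g w₂, add_mem ?_ ?_, by rw [map_add, algH_tr, algH_tr]⟩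
    · have := Ideal.mem_map_of_mem (tr f) h₁
      rwa [stageIdeal, map_algebraMap_ideal] at this
    · have := Ideal.mem_map_of_mem (tr g) h₂
      rwa [stageIdeal, map_algebraMap_ideal] at this
  | smul c y _ hy =>
    obtain ⟨N₁, w₁, h₁, rfl⟩ := hy
    obtain ⟨N₂, c', hc⟩ := exists_toH c
    obtain ⟨K, f, g, -⟩ := CategoryTheory.IsFilteredOrEmpty.cocone_objs N₁ N₂
    refine ⟨K, tr g c' * tr f w₁, Ideal.mul_mem_left _ _ ?_, ?_⟩
    · have := Ideal.mem_map_of_mem (tr f) h₁
      rwa [stageIdeal, map_algebraMap_ideal] at this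
    · rw [map_mul, algH_tr, algH_tr, algH_eq, hc, smul_eq_mul]

theorem finite_quotient_baseChange (H : Type u) [CommRing H] [Algebra A H]
    [Module.Finite A (B ⧸ I.map (algebraMap A B))] :
    Module.Finite H ((H ⊗[A] B) ⧸ (I.map (algebraMap A H)).map (algebraMap H (H ⊗[A] B))) := by
  let Q := (H ⊗[A] B) ⧸ (I.map (algebraMap A H)).map (algebraMap H (H ⊗[A] B))
  let β : B →ₐ[A] Q := ((Ideal.Quotient.mkₐ H _).restrictScalars A).comp Algebra.TensorProduct.includeRight
  let γ : (B ⧸ I.map (algebraMap A B)) →ₐ[A] Q := Ideal.Quotient.liftₐ _ β (by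
    intro x hx
    have : I.map (algebraMap A B) ≤ RingHom.ker β.toRingHom := by
      rw [Ideal.map_le_iff_le_comap]
      intro a ha
      show β (algebraMap A B a) = 0
      rw [AlgHom.commutes, IsScalarTower.algebraMap_apply A (H ⊗[A] B) Q]
      refine Ideal.Quotient.eq_zero_iff_mem.2 ?_
      rw [IsScalarTower.algebraMap_apply A H (H ⊗[A] B)]
      exact Ideal.mem_map_of_mem _ (Ideal.mem_map_of_mem _ ha)
    exact this hx)
  let G : H ⊗[A] (B ⧸ I.map (algebraMap A B)) →ₐ[H] Q :=
    Algebra.TensorProduct.lift (Algebra.ofId H Q) γ fun _ _ => Commute.all _ _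
  refine Module.Finite.of_surjective G.toLinearMap fun q => ?_
  obtain ⟨z, rfl⟩ := Ideal.Quotient.mk_surjective q
  induction z with
  | zero => exact ⟨0, by simp⟩
  | tmul h b =>
    refine ⟨h ⊗ₜ Ideal.Quotient.mk _ b, ?_⟩
    show algebraMap H Q h * β b = _
    rw [IsScalarTower.algebraMap_apply H (H ⊗[A] B) Q]
    show Ideal.Quotient.mk _ (algebraMap H (H ⊗[A] B) h * (1 ⊗ₜ[A] b)) = _
    simp [Algebra.TensorProduct.algebraMap_apply]
  | add x y hx hy =>
    obtain ⟨a, ha⟩ := hx
    obtain ⟨b, hb⟩ := hy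
    exact ⟨a + b, by rw [map_add, ha, hb, map_add]⟩

theorem exists_pow_mul_eval₂_eq_zero {H R : Type u} [CommRing H] [CommRing R] (i : H →+* R) (g y : R)
    (p : H[X]) (h : p.eval₂ ((algebraMap R (Localization.Away g)).comp i) (algebraMap R (Localization.Away g) y) = 0) :
    ∃ m : ℕ, g ^ m * p.eval₂ i y = 0 := by
  rw [← Polynomial.hom_eval₂] at h
  obtain ⟨⟨_, m, rfl⟩, hm⟩ := (IsLocalization.map_eq_zero_iff (Submonoid.powers g) _ _).1 h
  exact ⟨m, hm⟩

theorem isIntegral_of_pow_mul {A' R : Type u} [CommRing A'] [CommRing R] [Algebra A' R] (g y : R)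
    (p : A'[X]) (hp : p.Monic) (m : ℕ) (h : g ^ m * p.eval₂ (algebraMap A' R) y = 0) :
    IsIntegral A' (algebraMap R (Localization.Away g) y) := by
  refine ⟨p, hp, ?_⟩
  rw [IsScalarTower.algebraMap_eq A' R (Localization.Away g), ← Polynomial.hom_eval₂]
  exact (IsLocalization.map_eq_zero_iff (Submonoid.powers g) _ _).2 ⟨⟨_, m, rfl⟩, h⟩

theorem eval₂_reflect_invSelf_eq_zero_iff {H R : Type u} [CommRing H] [CommRing R] (i : H →+* R) (g : R)
    (p : H[X]) (m : ℕ) (hm : p.natDegree ≤ m) :
    (p.reflect m).eval₂ ((algebraMap R (Localization.Away g)).comp i) (algebraMap R (Localization.Away g) g) = 0 ↔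
      p.eval₂ ((algebraMap R (Localization.Away g)).comp i) (IsLocalization.Away.invSelf g) = 0 := by
  let u : Localization.Away g := IsLocalization.Away.invSelf g
  letI : Invertible u :=
    ⟨algebraMap R (Localization.Away g) g, IsLocalization.Away.mul_invSelf g, by
      rw [mul_comm]; exact IsLocalization.Away.mul_invSelf g⟩
  exact Polynomial.eval₂_reflect_eq_zero_iff _ u m p hm

theorem exists_monic_lift {H : Type u} [CommRing H] {R : Type u} [CommRing R] (f : R →+* H) (p : H[X])
    (hp : p.Monic) (a : Fin p.natDegree → R) (ha : ∀ k, f (a k) = p.coeff k) :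
    ∃ p' : R[X], p'.Monic ∧ p'.natDegree ≤ p.natDegree ∧ p'.map f = p := by
  refine ⟨Polynomial.X ^ p.natDegree + ∑ k : Fin p.natDegree, Polynomial.C (a k) * Polynomial.X ^ (k : ℕ), ?_, ?_, ?_⟩
  · exact Polynomial.monic_X_pow_add (Polynomial.degree_sum_fin_lt _)
  · refine Polynomial.natDegree_add_le_of_degree_le (Polynomial.natDegree_X_pow_le _) ?_
    refine Polynomial.natDegree_sum_le_of_forall_le _ _ fun k _ => ?_
    exact (Polynomial.natDegree_C_mul_X_pow_le _ _).trans k.2.le
  · conv_rhs => rw [hp.as_sum]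
    rw [Polynomial.map_add, Polynomial.map_pow, Polynomial.map_X, Polynomial.map_sum,
      ← Fin.sum_univ_eq_sum_range (fun k => Polynomial.C (p.coeff k) * Polynomial.X ^ k)]
    simp [ha]

attribute [local instance] Algebra.TensorProduct.rightAlgebra

theorem exists_nbhd_finite [Algebra.FiniteType A B] (I : Ideal A) [Module.Finite A (B ⧸ I.map (algebraMap A B))] :
    ∃ (A' : Type u) (_ : CommRing A') (_ : Algebra A A') (_ : Algebra.Etale A A'),
      Function.Bijective (Ideal.quotientMap (I.map (algebraMap A A')) (algebraMap A A') Ideal.le_comap_map) ∧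
      ∃ g : A' ⊗[A] B, 1 - g ∈ I.map (algebraMap A (A' ⊗[A] B)) ∧ Module.Finite A' (Localization.Away g) := by
  classical
  let H := Hull A (A ⧸ I)
  haveI : HenselianRing H (I.map (algebraMap A H)) := PairHull.henselianRing A I
  haveI := finite_quotient_baseChange (I := I) (B := B) H
  obtain ⟨g, hg, hfin⟩ := exists_sub_one_mem_finite (A := H) (R := H ⊗[A] B) (I.map (algebraMap A H))
  rw [Ideal.map_map, ← IsScalarTower.algebraMap_eq] at hg
  obtain ⟨N₀, w, hw, hwg⟩ := exists_mem_map _ hg
  obtain ⟨t, ht⟩ := (Algebra.FiniteType.out : (⊤ : Subalgebra A B).FG)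
  let L := Localization.Away g
  let y : Option t → L := fun o => o.elim (IsLocalization.Away.invSelf g)
    fun x => algebraMap (H ⊗[A] B) L (1 ⊗ₜ (x : B))
  choose p hp hp0 using fun o => Algebra.IsIntegral.isIntegral (R := H) (y o)
  obtain ⟨N₁, a, ha⟩ := Hull.exists_ι_family fun q : (o : Option t) × Fin (p o).natDegree => (p q.1).coeff q.2
  obtain ⟨N, f₀, f₁, -⟩ := CategoryTheory.IsFilteredOrEmpty.cocone_objs N₀ N₁
  have hlift : ∀ o, ∃ p' : N.Ring[X], p'.Monic ∧ p'.natDegree ≤ (p o).natDegree ∧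
      p'.map (Hull.ι N).toRingHom = p o := fun o =>
    exists_monic_lift _ (p o) (hp o) (fun k => f₁.map (a ⟨o, k⟩)) fun k =>
      (Hull.ι_map f₁ _).trans (ha ⟨o, k⟩)
  choose p' hp' hdeg hmap using hlift
  let gN : N.Ring ⊗[A] B := 1 - tr f₀ w
  have hgN : algH N gN = g := by rw [map_sub, map_one, algH_tr, hwg, sub_sub_cancel]
  let Q : Option t → N.Ring[X] := fun o => match o with
    | none => (p' none).reflect (p none).natDegree
    | some x => p' (some x)
  let Y : Option t → N.Ring ⊗[A] B := fun o => o.elim gN fun x => 1 ⊗ₜ (x : B)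
  have hcomp : (algH (A := A) (B := B) N).toRingHom.comp (algebraMap N.Ring (N.Ring ⊗[A] B)) =
      (algebraMap H (H ⊗[A] B)).comp (Hull.ι N).toRingHom :=
    RingHom.ext fun x => by simp [algH, Algebra.TensorProduct.algebraMap_apply]; rfl
  have hex : ∀ o, ∃ m : ℕ, algH N (gN ^ m * (Q o).eval₂ (algebraMap N.Ring (N.Ring ⊗[A] B)) (Y o)) = 0 := by
    intro o
    have key : ((Q o).map (Hull.ι N).toRingHom).eval₂ ((algebraMap (H ⊗[A] B) L).comp (algebraMap H (H ⊗[A] B)))
        (algebraMap (H ⊗[A] B) L (algH N (Y o))) = 0 := by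
      match o with
      | some x =>
        have h0 := hp0 (some x)
        rw [IsScalarTower.algebraMap_eq H (H ⊗[A] B) L, ← hmap (some x)] at h0
        have hY : algH N (Y (some x)) = 1 ⊗ₜ (x : B) := by simp [algH, Y]
        rw [hY]
        exact h0
      | none =>
        have h0 := hp0 none
        rw [IsScalarTower.algebraMap_eq H (H ⊗[A] B) L, ← hmap none] at h0
        show (((p' none).reflect (p none).natDegree).map (Hull.ι N).toRingHom).eval₂ _
          (algebraMap (H ⊗[A] B) L (algH N gN)) = 0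
        rw [hgN, ← Polynomial.reflect_map, eval₂_reflect_invSelf_eq_zero_iff _ _ _ _
          (Polynomial.natDegree_map_le.trans (hdeg none))]
        exact h0
    obtain ⟨m, hm⟩ := exists_pow_mul_eval₂_eq_zero _ g (algH N (Y o)) _ key
    refine ⟨m, ?_⟩
    rw [Polynomial.eval₂_map, ← hcomp] at hm
    change g ^ m * (Q o).eval₂ _ ((algH N).toRingHom (Y o)) = 0 at hm
    rw [← Polynomial.hom_eval₂, ← hgN] at hm
    rw [map_mul, map_pow]
    exact hm
  choose m hm using hex
  obtain ⟨N', f, hf⟩ := exists_hom_eq_zero_family (N := N) (M := B) (Finset.univ : Finset (Option t))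
    (fun o => gN ^ m o * (Q o).eval₂ (algebraMap N.Ring (N.Ring ⊗[A] B)) (Y o))
    (fun o _ => by rw [← algH_eq]; exact hm o)
  obtain ⟨A', _, _, _, hbij, φ, -, -⟩ := exists_bijective_refine (I := I) N'.pt
  refine ⟨A', inferInstance, inferInstance, inferInstance, hbij, ?_⟩
  let ψ : N.Ring →ₐ[A] A' := φ.comp f.map
  let Φ : N.Ring ⊗[A] B →ₐ[A] A' ⊗[A] B := Algebra.TensorProduct.map ψ (AlgHom.id A B)
  have hΦ0 : ∀ o, Φ (gN ^ m o * (Q o).eval₂ (algebraMap N.Ring (N.Ring ⊗[A] B)) (Y o)) = 0 := fun o => by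
    have e : Φ = (Algebra.TensorProduct.map φ (AlgHom.id A B)).comp (tr f) := by
      apply Algebra.TensorProduct.ext' ; intro a b; simp [Φ, ψ, tr]
    rw [e, AlgHom.comp_apply, tr_eq, hf o (Finset.mem_univ o), map_zero]
  have hΦcomp : Φ.toRingHom.comp (algebraMap N.Ring (N.Ring ⊗[A] B)) =
      (algebraMap A' (A' ⊗[A] B)).comp ψ.toRingHom :=
    RingHom.ext fun x => by simp [Φ, Algebra.TensorProduct.algebraMap_apply]
  let g' := Φ gN
  refine ⟨g', ?_, ?_⟩
  · have h1 : 1 - g' = Φ (tr f₀ w) := by simp [g', gN]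
    rw [h1]
    have h2 := Ideal.mem_map_of_mem Φ (Ideal.mem_map_of_mem (tr f₀) hw)
    rwa [stageIdeal, map_algebraMap_ideal, map_algebraMap_ideal] at h2
  let C' := Localization.Away g'
  have hQ : ∀ o, g' ^ m o * ((Q o).map ψ.toRingHom).eval₂ (algebraMap A' (A' ⊗[A] B)) (Φ (Y o)) = 0 := fun o => by
    have h := hΦ0 o
    rw [map_mul, map_pow] at h
    rw [Polynomial.eval₂_map, ← hΦcomp]
    show g' ^ m o * (Q o).eval₂ _ (Φ.toRingHom (Y o)) = 0
    rw [← Polynomial.hom_eval₂]
    exact h
  have hx : ∀ x : t, algebraMap (A' ⊗[A] B) C' (1 ⊗ₜ (x : B)) ∈ integralClosure A' C' := fun x => by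
    have := isIntegral_of_pow_mul g' (Φ (Y (some x))) _ ((hp' (some x)).map ψ.toRingHom) _ (hQ (some x))
    show IsIntegral A' _
    simpa [Φ, Y] using this
  have hu : IsLocalization.Away.invSelf g' ∈ integralClosure A' C' := by
    refine ⟨(p' none).map ψ.toRingHom, (hp' none).map _, ?_⟩
    rw [IsScalarTower.algebraMap_eq A' (A' ⊗[A] B) C',
      ← eval₂_reflect_invSelf_eq_zero_iff _ _ _ (p none).natDegree (Polynomial.natDegree_map_le.trans (hdeg none)),
      Polynomial.reflect_map, ← Polynomial.hom_eval₂]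
    exact (IsLocalization.map_eq_zero_iff (Submonoid.powers g') _ _).2 ⟨⟨_, m none, rfl⟩, hQ none⟩
  have hB : ∀ b : B, algebraMap (A' ⊗[A] B) C' (1 ⊗ₜ b) ∈ integralClosure A' C' := fun b => by
    let ρ : B →ₐ[A] C' := (IsScalarTower.toAlgHom A (A' ⊗[A] B) C').comp Algebra.TensorProduct.includeRight
    have hb : Algebra.adjoin A (t : Set B) ≤ ((integralClosure A' C').restrictScalars A).comap ρ :=
      Algebra.adjoin_le fun x hxt => hx ⟨x, hxt⟩
    exact hb (ht ▸ Algebra.mem_top)
  haveI : Algebra.IsIntegral A' C' := ⟨fun z => by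
    obtain ⟨r, ⟨_, n, rfl⟩, rfl⟩ := IsLocalization.exists_mk'_eq (Submonoid.powers g') z
    have e : IsLocalization.mk' C' r (⟨g' ^ n, n, rfl⟩ : Submonoid.powers g') =
        algebraMap (A' ⊗[A] B) C' r * IsLocalization.Away.invSelf g' ^ n := by
      rw [IsLocalization.mk'_eq_iff_eq_mul, mul_assoc, map_pow, ← mul_pow,
        mul_comm (IsLocalization.Away.invSelf g'), IsLocalization.Away.mul_invSelf, one_pow, mul_one]
    rw [e]
    refine (Subalgebra.mul_mem _ ?_ (Subalgebra.pow_mem _ hu n) : _ ∈ integralClosure A' C')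
    clear e
    induction r with
    | zero => rw [map_zero]; exact zero_mem _
    | tmul a b =>
      rw [show a ⊗ₜ[A] b = a • ((1 : A') ⊗ₜ[A] b) by rw [TensorProduct.smul_tmul', smul_eq_mul, mul_one],
        Algebra.smul_def, map_mul, ← IsScalarTower.algebraMap_apply]
      exact Subalgebra.mul_mem _ (Subalgebra.algebraMap_mem _ a) (hB b)
    | add a b ha hb => rw [map_add]; exact add_mem ha hb⟩
  haveI : Algebra.FiniteType (A' ⊗[A] B) C' := IsLocalization.finiteType_of_monoid_fg (Submonoid.powers g') C'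
  haveI : Algebra.FiniteType A' C' := Algebra.FiniteType.trans (S := A' ⊗[A] B) inferInstance inferInstance
  exact Algebra.IsIntegral.finite

theorem quotient_includeRight (A' : Type u) [CommRing A'] [Algebra A A']
    (hbij : Function.Bijective (Ideal.quotientMap (I.map (algebraMap A A')) (algebraMap A A') Ideal.le_comap_map)) :
    (∀ x : A' ⊗[A] B, ∃ b : B, x - 1 ⊗ₜ b ∈ I.map (algebraMap A (A' ⊗[A] B))) ∧
    ∀ b : B, (1 : A') ⊗ₜ[A] b ∈ I.map (algebraMap A (A' ⊗[A] B)) → b ∈ I.map (algebraMap A B) := by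
  constructor
  · intro x
    induction x with
    | zero => exact ⟨0, by simp⟩
    | tmul a b =>
      obtain ⟨c, hc⟩ := hbij.2 (Ideal.Quotient.mk _ a)
      obtain ⟨c, rfl⟩ := Ideal.Quotient.mk_surjective c
      rw [Ideal.quotientMap_mk, Ideal.Quotient.eq] at hc
      refine ⟨c • b, ?_⟩
      have h1 := Ideal.mem_map_of_mem (Algebra.TensorProduct.includeLeft : A' →ₐ[A] A' ⊗[A] B) hc
      rw [map_algebraMap_ideal] at h1
      have h2 := Ideal.mul_mem_right ((1 : A') ⊗ₜ[A] b) _ (Submodule.neg_mem _ h1)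
      convert h2 using 1
      simp [sub_mul, Algebra.TensorProduct.algebraMap_apply, Algebra.algebraMap_eq_smul_one, TensorProduct.smul_tmul,
        TensorProduct.sub_tmul]
    | add x y hx hy =>
      obtain ⟨b, hb⟩ := hx
      obtain ⟨c, hc⟩ := hy
      exact ⟨b + c, by rw [TensorProduct.tmul_add, add_sub_add_comm]; exact add_mem hb hc⟩
  · intro b hb
    let e := AlgEquiv.ofBijective
      (Ideal.quotientMapₐ (I.map (algebraMap A A')) (Algebra.ofId A A') Ideal.le_comap_map) hbij
    let σ : A' →ₐ[A] A ⧸ I := e.symm.toAlgHom.comp (Ideal.Quotient.mkₐ A _)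
    let τ : A ⧸ I →ₐ[A] B ⧸ I.map (algebraMap A B) :=
      Ideal.quotientMapₐ _ (Algebra.ofId A B) Ideal.le_comap_map
    let ψ : A' ⊗[A] B →ₐ[A] B ⧸ I.map (algebraMap A B) :=
      Algebra.TensorProduct.lift (τ.comp σ) (Ideal.Quotient.mkₐ A _) fun _ _ => Commute.all _ _
    have h := Ideal.mem_map_of_mem ψ hb
    rw [map_algebraMap_ideal] at h
    have h0 : I.map (algebraMap A (B ⧸ I.map (algebraMap A B))) = ⊥ := by
      rw [IsScalarTower.algebraMap_eq A B (B ⧸ I.map (algebraMap A B)), ← Ideal.map_map]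
      exact Ideal.map_quotient_self _
    rw [h0, Ideal.mem_bot] at h
    rw [show ψ ((1 : A') ⊗ₜ[A] b) = Ideal.Quotient.mk _ b by simp [ψ]] at h
    exact Ideal.Quotient.eq_zero_iff_mem.1 h

end Main

end GrothLib.EtFinNhd10
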